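import Groth.Agent.ProjBundleCoh.Iso
import Groth.Agent.AbvarAmple.FibreAcyclic
import Groth.Agent.CohBase.RpushAffineLin
import Groth.Agent.CohBase.RelAmpleVanish
import Groth.Agent.CohBase.FiniteBC.PushNat
import Groth.Agent.Duality.SheafHomTwist
import Groth.Agent.PnCoh.OverAffine
import Groth.Agent.PicAux.Powers
import Groth.Agent.LocFree.Basic

/-!
# Higher direct images of the twists on a projective bundle
-/

universe u

open CategoryTheory CategoryTheory.Limits AlgebraicGeometry Opposite TopologicalSpace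
open Groth.PicAux Groth.CohBase

set_option backward.isDefEq.respectTransparency.types false
set_option linter.style.haveILetI false

noncomputable section

namespace Groth.ProjBundleCoh

variable {Y P : Scheme.{u}} {π : P ⟶ Y} {E : Y.Modules} {O1 : P.Modules}
  {q : (Scheme.Modules.pullback π).obj E ⟶ O1} {r : ℕ}

/-- A projective bundle is proper. -/
theorem isProper_projBundle (hE : FlatMod.IsFinLocFreeOfRank (r + 1) E)
    (hP : KRR.IsProjBundle π E O1 q) : IsProper π := by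
  choose V e hV hxV he using fun x : Y => Groth.LocFree.exists_affine_basis_ofRank hE x
  refine (IsZariskiLocalAtTarget.iff_of_iSup_eq_top (P := @IsProper) V
    (eq_top_iff.2 fun y _ => Opens.mem_iSup.2 ⟨y, hxV y⟩)).2 fun y => ?_
  obtain ⟨φ, hφ, hφπ, -⟩ := exists_iso_projSpace (he y) hP (hV y)
  have h : π ∣_ V y = φ ≫ CohB1.ProjSpace.toSpec r Γ(Y, V y) ≫ (hV y).isoSpec.inv := by
    rw [← cancel_mono (V y).ι, morphismRestrict_ι, ← hφπ]
    simp only [Category.assoc, IsAffineOpen.isoSpec_inv_ι]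
  rw [h]
  infer_instance

/-- Vanishing of the cohomology of the twists over an affine open of triviality, in terms of
projective space. -/
theorem subsingleton_H'_of_twist {V : Y.Opens} (hV : IsAffineOpen V) {e : Fin (r + 1) → Γ(E, V)}
    (he : Basis' E V e) (hP : KRR.IsProjBundle π E O1 q) (M : P.Modules) (d : ℤ)
    (hM : ∀ (W : P.Opens) (φ : W.toScheme ⟶ CohB1.ProjSpace r Γ(Y, V)),
      Nonempty ((Scheme.Modules.pullback φ).obj (Twist.twistProjSpace r Γ(Y, V) 1) ≅ O1.restrict W.ι) →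
      Nonempty ((Scheme.Modules.pullback φ).obj (Twist.twistProjSpace r Γ(Y, V) d) ≅ M.restrict W.ι))
    (i : ℕ) (h₀ : ¬ (i = 0 ∧ 0 ≤ d)) (hn : ¬ (i = r ∧ d ≤ -((r : ℤ) + 1))) :
    Subsingleton (Coh.HH (π ⁻¹ᵁ V : P.Opens) (M.restrict (π ⁻¹ᵁ V).ι) i) := by
  obtain ⟨φ, hφ, -, hτ⟩ := exists_iso_projSpace he hP hV
  obtain ⟨eM⟩ := hM _ φ hτ
  exact PnCoh.subsingleton_HH_of_iso (φ ≫ CohB1.ProjSpace.toSpec r Γ(Y, V)) eM
    ((AbvarAmple.subsingleton_HH_pullback_iff φ (φ ≫ CohB1.ProjSpace.toSpec r Γ(Y, V)) _ i).2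
      (PnCoh.subsingleton_HH_twist (n := r) (R := Γ(Y, V)) d i h₀ hn))

/-- The higher direct image vanishes when it does on the preimages of affine opens of triviality. -/
theorem isZero_RpushAb_of_preimage (hE : FlatMod.IsFinLocFreeOfRank (r + 1) E)
    (hP : KRR.IsProjBundle π E O1 q) (M : P.Modules) [M.IsQuasicoherent] (i : ℕ)
    (h : ∀ (V : Y.Opens) (e : Fin (r + 1) → Γ(E, V)), IsAffineOpen V → Basis' E V e →
      Subsingleton (Coh.HH (π ⁻¹ᵁ V : P.Opens) (M.restrict (π ⁻¹ᵁ V).ι) i)) :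
    IsZero ((Coh.RpushAb π i).obj (Coh.toAb M)) := by
  haveI := isProper_projBundle hE hP
  choose V e hV hxV he using fun x : Y => Groth.LocFree.exists_affine_basis_ofRank hE x
  obtain ⟨a⟩ := nonempty_toAb_Rpush_iso π (p := i) (M := M)
  refine IsZero.of_iso ?_ a.symm
  refine (toAbF Y).map_isZero ?_
  haveI := isQCoh_Rpush π i (M := M)
  refine isZero_of_sections_cover _ V hV
    (eq_top_iff.2 fun y _ => Opens.mem_iSup.2 ⟨y, hxV y⟩) fun y => ?_
  obtain ⟨l⟩ := exists_Rpush_linEquiv (M := M) (f := π) (p := i) (hV y)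
  haveI := h (V y) (e y) (hV y) (he y)
  exact l.injective.subsingleton

/-- The higher direct images of the twists on a projective bundle. -/
theorem isZero_twists (hE : FlatMod.IsFinLocFreeOfRank (r + 1) E)
    (hP : KRR.IsProjBundle π E O1 q) {L : P.Modules} (hL : ClSub.IsInverseOf L O1) :
    (∀ (n i : ℕ), i ≠ 0 → IsZero ((Coh.RpushAb π i).obj (Coh.toAb (CohB1.tensorPow O1 n)))) ∧
    (∀ (m i : ℕ), 1 ≤ m → ¬ (i = r ∧ r + 1 ≤ m) →
      IsZero ((Coh.RpushAb π i).obj (Coh.toAb (CohB1.tensorPow L m)))) := by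
  have hO := PBundle.isInvertible_O1 hP
  have hLi : PicF.IsInvertible L := isInvertible_of_isInverseOf hO (isInverseOf_symm hL)
  have key : ∀ (W : P.Opens) (n : ℕ) (M : P.Modules),
      Nonempty ((CohB1.tensorPow M n).restrict W.ι ≅ CohB1.tensorPow (M.restrict W.ι) n) :=
    fun W n M => by
      obtain ⟨b⟩ := pullback_tensorPow W.ι M n
      obtain ⟨c⟩ := nonempty_tensorPow_iso ((Scheme.Modules.restrictFunctorIsoPullback W.ι).app M) (n := n)
      exact ⟨(Scheme.Modules.restrictFunctorIsoPullback W.ι).app _ ≪≫ b ≪≫ c.symm⟩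
  refine ⟨fun n i hi => ?_, fun m i hm hi => ?_⟩
  · haveI := isQCoh_of_isInvertible (PicAux.isInvertible_tensorPow hO n)
    refine isZero_RpushAb_of_preimage hE hP _ i fun V e hV he =>
      subsingleton_H'_of_twist hV he hP _ (n : ℤ) (fun W φ => ?_) i (fun h => hi h.1) fun h => by omega
    rintro ⟨τ⟩
    obtain ⟨a⟩ := Ega2Proj.nonempty_pow_iso (Duality.Pn.irrelevant_le_span_one r Γ(Y, V)) n
    obtain ⟨b⟩ := pullback_tensorPow φ (Twist.twistProjSpace r Γ(Y, V) 1) n
    obtain ⟨c⟩ := nonempty_tensorPow_iso τ (n := n)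
    obtain ⟨d⟩ := key W n O1
    exact ⟨(Scheme.Modules.pullback φ).mapIso a ≪≫ b ≪≫ c ≪≫ d.symm⟩
  · haveI := isQCoh_of_isInvertible (PicAux.isInvertible_tensorPow hLi m)
    refine isZero_RpushAb_of_preimage hE hP _ i fun V e hV he =>
      subsingleton_H'_of_twist hV he hP _ (-(m : ℤ)) (fun W φ => ?_) i (fun h => by omega)
        fun h => hi ⟨h.1, by omega⟩
    rintro ⟨τ⟩
    obtain ⟨a⟩ := Ega2Proj.nonempty_pow_iso (Duality.Pn.irrelevant_le_span_one r Γ(Y, V)) m
    obtain ⟨b⟩ := pullback_tensorPow φ (Twist.twistProjSpace r Γ(Y, V) 1) m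
    obtain ⟨c⟩ := nonempty_tensorPow_iso τ (n := m)
    obtain ⟨d⟩ := key W m O1
    obtain ⟨d'⟩ := key W m L
    obtain ⟨w⟩ := isInverseOf_pullback φ (Duality.Pn.isInverseOf_twist r Γ(Y, V) (m : ℤ))
    obtain ⟨w'⟩ := isInverseOf_pullback W.ι (isInverseOf_tensorPow (isInverseOf_symm hL) m)
    exact isInverseOf_unique (L := (Scheme.Modules.pullback φ).obj (Twist.twistProjSpace r Γ(Y, V) (m : ℤ)))
      ⟨w⟩ ⟨PicGrp.tensorModIso ((Scheme.Modules.pullback φ).mapIso a ≪≫ b ≪≫ c ≪≫ d.symm ≪≫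
        (Scheme.Modules.restrictFunctorIsoPullback W.ι).app _)
        ((Scheme.Modules.restrictFunctorIsoPullback W.ι).app _) ≪≫ w'⟩

end Groth.ProjBundleCoh
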