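import Groth.Agent.Chow.ToPn
import Groth.Agent.PBundle.Euler

/-!
# A projective bundle over an affine open with a basis is projective space
-/

universe u

open CategoryTheory CategoryTheory.Limits AlgebraicGeometry Opposite TopologicalSpace
open Groth.PicAux Groth.RelTw Groth.Chow.ToPn HomogeneousLocalization

set_option backward.isDefEq.respectTransparency.types false
set_option linter.style.haveILetI false

noncomputable section

namespace Groth.ProjBundleCoh

section Algebra

variable {R S : Type u} [CommRing R] [CommRing S] {n : ℕ}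

/-- A chart evaluation is bijective as soon as the affine coordinates are free generators. -/
theorem chart_bijective (i : Fin (n + 1)) (f : R →+* S) (b : Fin (n + 1) → S) (hb : b i = 1)
    (hbij : Function.Bijective (MvPolynomial.eval₂Hom f fun l : {l : Fin (n + 1) // l ≠ i} => b l.1)) :
    Function.Bijective (chart i f b hb) := by
  classical
  let co : Fin (n + 1) → MvPolynomial {l : Fin (n + 1) // l ≠ i} R :=
    fun l => if h : l = i then 1 else MvPolynomial.X ⟨l, h⟩
  let dehom : MvPolynomial (Fin (n + 1)) R →+* MvPolynomial {l : Fin (n + 1) // l ≠ i} R :=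
    MvPolynomial.eval₂Hom MvPolynomial.C co
  have key : ∀ {T : Type u} [CommRing T] (g : R →+* T) (c : Fin (n + 1) → T), c i = 1 → ∀ a,
      MvPolynomial.eval₂ g c a =
        MvPolynomial.eval₂Hom g (fun l : {l : Fin (n + 1) // l ≠ i} => c l.1) (dehom a) := by
    intro T _ g c hc a
    have e : MvPolynomial.eval₂Hom g c =
        (MvPolynomial.eval₂Hom g fun l : {l : Fin (n + 1) // l ≠ i} => c l.1).comp dehom := by
      refine MvPolynomial.ringHom_ext (fun r => by simp [dehom]) fun l => ?_
      by_cases h : l = i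
      · subst h; simp [dehom, co, hc]
      · simp [dehom, co, h]
    exact congrArg (fun φ : _ →+* T => φ a) e
  refine ⟨(injective_iff_map_eq_zero _).2 fun z hz => ?_, fun s => ?_⟩
  · obtain ⟨d, a, ha, rfl⟩ := Away.mk_surjective (CohB1.polyGrading n R) (X_mem i) z
    rw [chart_mk, key f b hb] at hz
    have h0 : dehom a = 0 := hbij.1 (hz.trans (map_zero _).symm)
    let A := Localization.Away (MvPolynomial.X i : MvPolynomial (Fin (n + 1)) R)
    let g : MvPolynomial (Fin (n + 1)) R →+* A := algebraMap _ A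
    obtain ⟨v, hv⟩ : IsUnit (g (MvPolynomial.X i)) :=
      IsLocalization.Away.algebraMap_isUnit (MvPolynomial.X i : MvPolynomial (Fin (n + 1)) R)
    have hga : g a = 0 := by
      have e1 : g a = MvPolynomial.eval₂ (g.comp MvPolynomial.C)
          (fun l => (v : A) * ((↑v⁻¹ : A) * g (MvPolynomial.X l))) a := by
        have e0 : g = MvPolynomial.eval₂Hom (g.comp MvPolynomial.C) fun l => g (MvPolynomial.X l) :=
          MvPolynomial.ringHom_ext (fun r => by simp) fun l => by simp
        refine (congrArg (fun φ : _ →+* A => φ a) e0).trans ?_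
        exact congrArg (fun c => MvPolynomial.eval₂ (g.comp MvPolynomial.C) c a)
          (funext fun l => (Units.mul_inv_cancel_left v _).symm)
      rw [e1, eval₂_scale _ _ _ (by simpa using ha : a ∈ CohB1.polyGrading n R d),
        key _ _ (by rw [← hv, Units.inv_mul]), h0, map_zero, mul_zero]
    apply val_injective
    rw [Away.val_mk, val_zero, Localization.mk_eq_mk', IsLocalization.mk'_eq_zero_iff]
    exact (IsLocalization.map_eq_zero_iff
      (Submonoid.powers (MvPolynomial.X i : MvPolynomial (Fin (n + 1)) R)) A a).1 hga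
  · obtain ⟨p, rfl⟩ := hbij.2 s
    suffices h : (MvPolynomial.eval₂Hom f fun l : {l : Fin (n + 1) // l ≠ i} => b l.1).range ≤
        (chart i f b hb).range from h ⟨p, rfl⟩
    rintro _ ⟨p, rfl⟩
    induction p using MvPolynomial.induction_on with
    | C r => exact ⟨Away.mk _ (X_mem i) 0 (MvPolynomial.C r)
        (by simpa using MvPolynomial.isHomogeneous_C _ r), by simp [chart_mk]⟩
    | add p q hp hq => rw [map_add]; exact add_mem hp hq
    | mul_X p l hp =>
      rw [map_mul]
      refine mul_mem hp ⟨Away.mk _ (X_mem i) 1 (MvPolynomial.X l.1) (by rw [one_smul]; exact X_mem _), ?_⟩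
      simp [chart_mk]

end Algebra

section Morphism

variable {R : Type u} [CommRing R] {n : ℕ} {X : Scheme.{u}} (q : X ⟶ Spec (CommRingCat.of R))
  (L : X.Modules) (s : Fin (n + 1) → ProjUP.Γm L)

/-- A morphism to projective space given by sections with affine free charts is an isomorphism. -/
theorem isIso_of_charts (hU : ⨆ i, U L s i = ⊤) (haff : ∀ i, IsAffineOpen (U L s i))
    (hbij : ∀ i, Function.Bijective (α q L s i)) {r : X ⟶ Proj (CohB1.polyGrading n R)}
    (hr : ∀ i, (U L s i).ι ≫ r = rU q L s i) : IsIso r := by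
  let D : Fin (n + 1) → (Proj (CohB1.polyGrading n R)).Opens := fun i =>
    Proj.basicOpen (CohB1.polyGrading n R) (MvPolynomial.X i)
  have hD : iSup D = ⊤ := Proj.iSup_basicOpen_eq_top _ _ irrelevant_le_span_X
  rw [← MorphismProperty.isomorphisms.iff (C := Scheme.{u})]
  refine (IsZariskiLocalAtTarget.iff_of_iSup_eq_top (P := MorphismProperty.isomorphisms Scheme) D hD).2
    fun i => ?_
  rw [MorphismProperty.isomorphisms.iff]
  have hpre : r ⁻¹ᵁ D i = U L s i := preimage_D hr hU i
  haveI : IsAffine (U L s i).toScheme := haff i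
  haveI : IsIso (CommRingCat.ofHom (α q L s i)) :=
    (ConcreteCategory.isIso_iff_bijective _).2 (hbij i)
  haveI : IsIso (U L s i).toSpecΓ := by
    rw [← (haff i).isoSpec_hom]
    infer_instance
  have e : (r ∣_ D i) = (X.isoOfEq hpre).hom ≫ (U L s i).toSpecΓ ≫
      Spec.map (CommRingCat.ofHom (α q L s i)) ≫
        (Proj.basicOpenIsoSpec (CohB1.polyGrading n R) _ (X_mem i) one_pos).inv := by
    rw [← cancel_mono (D i).ι, morphismRestrict_ι]
    simp only [Category.assoc]
    refine Eq.trans ?_ (congrArg ((X.isoOfEq hpre).hom ≫ ·) (hr i))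
    rw [Scheme.isoOfEq_hom_ι_assoc]
  rw [e]
  infer_instance

end Morphism

section Restr

variable {S X : Scheme.{u}} {g : X ⟶ S} {E : S.Modules} {L : X.Modules} (σ : LinData g E L)

/-- Ratios of restricted data are restrictions of ratios. -/
theorem restr_ratio (W : X.Opens) (U : S.Opens) (e e' : Γ(E, U))
    (h : (σ.restr W).genLoc U e ≤ W.ι ⁻¹ᵁ σ.genLoc U e) :
    W.ι.appLE (σ.genLoc U e) ((σ.restr W).genLoc U e) h (σ.ratio U e e') = (σ.restr W).ratio U e e' := by
  refine (σ.restr W).eq_ratio ?_
  refine (restrict_smul W _ _ _).trans ?_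
  have hle : W.ι ''ᵁ (σ.restr W).genLoc U e ≤ σ.genLoc U e :=
    (W.ι.image_mono h).trans (W.ι.image_preimage_le _)
  have := congrArg (res L hle) (σ.ratio_smul U e e')
  rw [PicAux.res_smul, PicAux.res_res, PicAux.res_res] at this
  rw [restr_app σ W, restr_app σ W, Scheme.Opens.ι_appLE]
  exact this

end Restr

section Bundle

variable {S P : Scheme.{u}} {π : P ⟶ S} {F : S.Modules} {O1 : P.Modules}
  {q : (Scheme.Modules.pullback π).obj F ⟶ O1} {V : S.Opens} {n : ℕ}
  {e : Fin (n + 1) → Γ(F, V)}

/-- Over an affine open with a basis, a projective bundle is projective space. -/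
theorem exists_iso_projSpace (he : Basis' F V e) (hPB : KRR.IsProjBundle π F O1 q)
    (hV : IsAffineOpen V) :
    ∃ (r : (π ⁻¹ᵁ V : P.Opens).toScheme ⟶ CohB1.ProjSpace n Γ(S, V)), IsIso r ∧
      r ≫ CohB1.ProjSpace.toSpec n Γ(S, V) ≫ hV.fromSpec = (π ⁻¹ᵁ V).ι ≫ π ∧
      Nonempty ((Scheme.Modules.pullback r).obj (Twist.twistProjSpace n Γ(S, V) 1) ≅
        O1.restrict (π ⁻¹ᵁ V).ι) := by
  let W : P.Opens := π ⁻¹ᵁ V
  let σ := (linData q).restr W
  let L : W.toScheme.Modules := O1.restrict W.ι
  let qX : W.toScheme ⟶ Spec (CommRingCat.of Γ(S, V)) := (π ∣_ V) ≫ hV.isoSpec.hom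
  have htop : (⊤ : W.toScheme.Opens) ≤ (W.ι ≫ π) ⁻¹ᵁ V := fun z _ => z.2
  let s : Fin (n + 1) → ProjUP.Γm L := fun i => res L htop (σ.app V (e i))
  have hUeq : ∀ i, U L s i = W.ι ⁻¹ᵁ PBundle.chart q e i := by
    intro i
    rw [← genLoc_restr]
    refine le_antisymm (σ.le_genLoc (le_top.trans htop) ?_) ?_
    · have h := gen_U L s i
      rwa [res_res] at h
    · refine (le_genLocus_iff (homOfSection (s i)) _).2 ?_
      rw [gsec_homOfSection, res_res]
      exact σ.gen_genLoc V (e i)
  have hU : ⨆ i, U L s i = ⊤ := top_le_iff.1 fun z _ => by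
    obtain ⟨j, hj⟩ := PBundle.exists_mem_chart he hPB (W.ι z) z.2
    exact Opens.mem_iSup.2 ⟨j, (hUeq j).ge hj⟩
  have hle : ∀ i, PBundle.chart q e i ≤ W.ι.opensRange := fun i =>
    PBundle.chart_le.trans W.opensRange_ι.ge
  have hqX : qX ≫ hV.fromSpec = W.ι ≫ π := by
    rw [Category.assoc, hV.isoSpec_hom_fromSpec, morphismRestrict_ι]
  have hbase : ∀ i a, baseMap qX L s i a =
      W.ι.appLE (PBundle.chart q e i) (U L s i) (hUeq i).le
        (π.appLE V (PBundle.chart q e i) PBundle.chart_le a) := by
    intro i a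
    rw [← CommRingCat.comp_apply, Scheme.Hom.appLE_comp_appLE]
    have key : ∀ (g : W.toScheme ⟶ S) (hg : g = qX ≫ hV.fromSpec) (U' : W.toScheme.Opens)
        (h : U' ≤ g ⁻¹ᵁ V), g.appLE V U' h a = resX W.toScheme le_top (ProjUP.toGlobal qX a) := by
      rintro g rfl U' h
      have h1 := Scheme.Hom.appLE_comp_appLE qX hV.fromSpec V ⊤ U'
        (by rw [hV.fromSpec_preimage_self]) le_top
      rw [PBundle.fromSpec_appLE_self hV] at h1
      refine (congr(($h1).hom a)).symm.trans ?_
      rfl
    exact (key _ hqX.symm _ _).symm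
  have hα : ∀ i, Function.Bijective (α qX L s i) := by
    intro i
    obtain ⟨-, hb⟩ := PBundle.isAffineOpen_and_bijective (j := i) he hPB hV
    let ψ := W.ι.appLE (PBundle.chart q e i) (U L s i) (hUeq i).le
    have hψ : Function.Bijective ψ := by
      haveI : IsIso ψ := by
        have h1 : ψ = W.ι.app (PBundle.chart q e i) ≫ W.toScheme.presheaf.map (homOfLE (hUeq i).le).op := rfl
        haveI : IsIso (W.ι.app (PBundle.chart q e i)) := W.ι.isIso_app _ (hle i)
        haveI : IsIso (homOfLE (hUeq i).le) :=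
          ⟨homOfLE (hUeq i).ge, Subsingleton.elim _ _, Subsingleton.elim _ _⟩
        rw [h1]
        infer_instance
      exact ConcreteCategory.bijective_of_isIso ψ
    refine chart_bijective i (baseMap qX L s i) (c L s i) (c_self L s i) ?_
    have hc : ∀ l, c L s i l = ψ (PBundle.coords q e i l) := by
      intro l
      refine (gen_U L s i).smul_inj le_rfl ?_
      rw [res_self, ← c_spec]
      have hgl : U L s i ≤ σ.genLoc V (e i) := ((hUeq i).trans (genLoc_restr _ W V (e i)).symm).le
      have h1 := congrArg (res L hgl) (σ.ratio_smul V (e i) (e l))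
      have h2 : ψ (PBundle.coords q e i l) = resX W.toScheme hgl (σ.ratio V (e i) (e l)) := by
        rw [← restr_ratio (linData q) W V (e i) (e l) (genLoc_restr _ W V (e i)).le]
        exact (congr($(Scheme.Hom.appLE_map W.ι (genLoc_restr (linData q) W V (e i)).le
          (homOfLE hgl).op) _)).symm
      rw [h2]
      simp only [s, L, res_smul, res_res] at h1 ⊢
      exact h1.symm
    have e1 : (MvPolynomial.eval₂Hom (baseMap qX L s i) fun l : {l : Fin (n + 1) // l ≠ i} => c L s i l.1) =
        ψ.hom.comp (PBundle.chartHom q e i) := by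
      refine MvPolynomial.ringHom_ext (fun a => ?_) fun l => ?_
      · rw [MvPolynomial.eval₂Hom_C, RingHom.comp_apply, PBundle.chartHom_C]
        exact hbase i a
      · rw [MvPolynomial.eval₂Hom_X', RingHom.comp_apply, PBundle.chartHom_X]
        exact hc l.1
    rw [e1]
    exact hψ.comp hb
  obtain ⟨r, hr⟩ := exists_r qX L s hU
  obtain ⟨τ, -⟩ := exists_tau hr hU
  refine ⟨r, isIso_of_charts qX L s hU (fun i => ?_) hα hr, ?_, ⟨τ⟩⟩
  · rw [hUeq i]
    exact (PBundle.isAffineOpen_and_bijective (j := i) he hPB hV).1.preimage_of_isOpenImmersion W.ι (hle i)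
  · rw [← Category.assoc, r_toSpec hr hU]
    exact hqX

end Bundle

end Groth.ProjBundleCoh
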